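import Cfsg.Agent.Lib.LU4.AUT
import Cfsg.Agent.Lib.PS4.Q

/-! # Automorphisms of `SL₂(q)` fixing a Sylow 2-subgroup -/

set_option autoImplicit false

namespace H13.LB

open Subgroup H69
open scoped MatrixGroups

variable {F : Type*} [Field F] [Fintype F]

namespace AUT2

open H64.SL2 H73.LU.AUT

theorem nonab (hF : Odd (Fintype.card F)) (P : Sylow 2 SL(2, F)) :
    ∃ x ∈ (P : Subgroup SL(2, F)), ∃ y ∈ (P : Subgroup SL(2, F)), x * y ≠ y * x := by
  obtain ⟨k, hk, -, -, h, -⟩ := H10.exists_sylow_two_SL_two (F := F) (Nat.card_eq_fintype_card (α := F) ▸ hF)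
  obtain ⟨k, rfl⟩ : ∃ l, k = l + 1 := ⟨k - 1, by omega⟩
  obtain ⟨e⟩ : Nonempty ((P : Subgroup SL(2, F)) ≃* PS.QG k) := h P
  refine ⟨_, (e.symm (.xa 0)).2, _, (e.symm (PS.u0 k)).2, fun d => PS.u_ne (k := k) ?_⟩
  have := congrArg e (Subtype.ext d : e.symm (.xa 0) * e.symm (PS.u0 k) = e.symm (PS.u0 k) * e.symm (.xa 0))
  simp only [map_mul, MulEquiv.apply_symm_apply] at this
  rw [← PS.xa_u 0, this, mul_inv_cancel_right]

theorem fld (hF : Odd (Fintype.card F)) (P : Sylow 2 SL(2, F)) {σ : RingAut F} (hσ : σ * σ = 1)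
    (e : ∀ x ∈ (P : Subgroup SL(2, F)), σ (tr x) = tr x) : σ = 1 := by
  by_contra n
  obtain ⟨m, hm, hm'⟩ := H46.Q.pow_of_order_two (σ := σ) (orderOf_eq_prime (by rwa [pow_two]) n)
  obtain ⟨γ, hγ⟩ := IsCyclic.exists_ofOrder_eq_natCard (α := Fˣ)
  have h1 := Finite.one_lt_card (α := F)
  obtain ⟨m, rfl⟩ : Odd m := (Nat.odd_pow_iff two_ne_zero).1 (by rwa [← hm, Nat.card_eq_fintype_card])
  have m0 : m ≠ 0 := by rintro rfl; omega
  rw [Nat.card_units, hm, show (2 * m + 1) ^ 2 - 1 = 2 * m * (2 * m + 2) from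
    Nat.sub_eq_of_eq_add (by ring)] at hγ
  obtain ⟨j, o, ho, d⟩ := Nat.exists_eq_two_pow_mul_odd (orderOf_pos γ).ne'
  have hζ : IsPGroup 2 (zpowers (diagHom (γ ^ o))) := IsPGroup.of_card_dvd_pow (n := j) (by
    rw [Nat.card_zpowers]
    exact orderOf_dvd_of_pow_eq_one (n := 2 ^ j) (by
      rw [← map_pow, ← pow_mul, mul_comm, ← d, pow_orderOf_eq_one, map_one]))
  obtain ⟨Q, hQ⟩ := hζ.exists_le_sylow
  obtain ⟨g, rfl⟩ := MulAction.exists_smul_eq SL(2, F) Q P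
  have t := e _ (smul_mem_pointwise_smul _ (MulAut.conj g) _ (hQ (mem_zpowers _)))
  rw [MulAut.smul_def, MulAut.conj_apply, tr_conj, show tr (diagHom (γ ^ o)) =
    ((γ ^ o : Fˣ) : F) + ((γ ^ o)⁻¹ : Fˣ) from rfl, map_add, hm', hm'] at t
  have k : ∀ n, (γ ^ o) ^ n = 1 → 2 * m * (2 * m + 2) ∣ o * n := fun n e => by
    rwa [← pow_mul, ← orderOf_dvd_iff_pow_eq_one, hγ] at e
  generalize γ ^ o = ζ at t k
  have : ζ ^ (2 * m) = 1 ∨ ζ ^ (2 * m + 2) = 1 := by
    simp only [← Units.val_inj, Units.val_pow_eq_pow_val, Units.val_one, ← sub_eq_zero (b := (1 : F)),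
      ← mul_eq_zero]
    have z0 := ζ.ne_zero
    rw [Units.val_inv_eq_inv_val, inv_pow] at t
    field_simp at t
    exact mul_left_cancel₀ z0 (by linear_combination t)
  rcases this with d | d
  · have := k _ d
    rw [mul_comm, Nat.mul_dvd_mul_iff_right (by omega)] at this
    exact ho.not_two_dvd_nat (Dvd.dvd.trans ⟨m + 1, by ring⟩ this)
  · have := k _ d
    rw [Nat.mul_dvd_mul_iff_right (by omega)] at this
    exact ho.not_two_dvd_nat (Dvd.dvd.trans ⟨m, rfl⟩ this)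

theorem sq (hF : Odd (Fintype.card F)) (P : Sylow 2 SL(2, F)) {θ : MulAut SL(2, F)} (hθ : θ * θ = 1)
    (e : ∀ x ∈ (P : Subgroup SL(2, F)), θ x = x) : θ = 1 := by
  obtain ⟨g, σ, h⟩ := exists_ac hF θ
  obtain rfl := fld hF P (hθ ▸ h.mul h : H47.QF.Ac 1 _ _).exists_sc.1 fun x hx => by rw [← h.tr, e x hx]
  have E : ∀ y, (θ y).1 * g.1 = g.1 * y.1 := ac_val h
  obtain ⟨x, hx, y, hy, n⟩ := nonab hF P
  obtain ⟨e1, e2, e3⟩ := not_not.1 fun d => n (Subtype.ext (H46.Q.comm_of_comm_nonscalar (A := g.1) d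
    (by rw [← E, e x hx]) (by rw [← E, e y hy])))
  have e4 : g.1 = g.1 0 0 • (1 : Matrix (Fin 2) (Fin 2) F) := by
    ext i j; fin_cases i <;> fin_cases j <;> simp [e1, e2, e3]
  refine MulEquiv.ext fun w => Subtype.ext (H52.FW.cancel_right g.det_ne_zero ?_)
  rw [E, e4]
  simp

theorem tr4 (hF : Odd (Fintype.card F)) {l : SL(2, F)} (hl : l * l = -1) : tr l = 0 ∧ tr l ^ 2 ≠ 4 := by
  have h2 := two_ne_zero_of_odd hF
  have t : tr l = 0 := (tr_eq_trace l).trans (H52.FW.Fus.tr_of_sq h2 hl)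
  exact ⟨t, fun e => mul_ne_zero h2 h2 (by rw [t] at e; linear_combination -e)⟩

end AUT2

open AUT2 H64.SL2

/-- a 2-automorphism which fixes a Sylow 2-subgroup is trivial -/
theorem sl_syl (hF : Odd (Fintype.card F)) (θ : MulAut SL(2, F)) {n : ℕ} (hθ : θ ^ 2 ^ n = 1)
    {Q : Subgroup SL(2, F)} (hQ : IsSylowIn 2 Q ⊤) (e : ∀ x ∈ Q, θ x = x) : θ = 1 := by
  induction n generalizing θ with
  | zero => simpa using hθ
  | succ n ih =>
    exact sq hF ⟨Q, hQ.isP, fun h1 h2 => hQ.max _ h2 le_top h1⟩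
      (ih (θ * θ) (by rw [← pow_two, ← pow_mul, ← pow_succ', hθ]) fun x hx => by
        rw [MulAut.mul_apply, e x hx, e x hx]) e

/-- the centraliser of an element of order four -/
theorem sl_cyc (hF : Odd (Fintype.card F)) {l : SL(2, F)} (hl : l * l = -1) :
    IsCyclic (centralizer {l}) ∧ (Nat.card (centralizer {l}) = Fintype.card F - 1 ∧ Fintype.card F % 4 = 1 ∨
      Nat.card (centralizer {l}) = Fintype.card F + 1 ∧ Fintype.card F % 4 = 3) := by
  obtain ⟨t, t4⟩ := tr4 hF hl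
  refine ⟨isCyclic_centralizer t4, ?_⟩
  have := Nat.odd_iff.1 hF
  by_cases hs : Split l
  · refine Or.inl ⟨Nat.card_eq_fintype_card (α := F) ▸ card_centralizer_of_split t4 hs, ?_⟩
    obtain ⟨a, ha⟩ := hs
    have := FiniteField.isSquare_neg_one_iff.1
      (show IsSquare (-1 : F) from ⟨a, by rw [t] at ha; linear_combination -ha⟩)
    omega
  · refine Or.inr ⟨Nat.card_eq_fintype_card (α := F) ▸ card_centralizer_of_not_split hs, by_contra fun n => ?_⟩
    obtain ⟨a, ha⟩ := FiniteField.isSquare_neg_one_iff.2 n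
    exact hs ⟨a, by rw [t]; linear_combination -ha⟩

theorem sl_inv (hF : Odd (Fintype.card F)) {l m x : SL(2, F)} (hl : l * l = -1) (hm : m * m = -1)
    (e : m * l = -(l * m)) (c : x * l = l * x) : m * x * m⁻¹ = x⁻¹ :=
  inverts_of_inverts (not_mem_center_of_tr (tr4 hF hl).2) (by
    rw [e, neg_mul, mul_inv_cancel_right, eq_inv_iff_mul_eq_one, neg_mul, hl, neg_neg])
    (mem_centralizer_singleton_iff.2 c)

end H13.LB
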