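import Cfsg.Agent.Lib.PS4.S

/-! # The Sylow 2-subgroup of `PSL₄(q)`, `q ≡ 1 (mod 4)`, inside a group -/

set_option autoImplicit false

namespace H13.LB

open Subgroup H13.PS QuaternionGroup

variable {k : ℕ} {G : Type*} [Group G]

local notation "c" => cq k

/-- the monomial element of the second block -/
def b2 (b σ : G) : G := σ * b * σ

/-- `T x y w` is the diagonal matrix with exponents `x, y, w, -(x+y+w)` modulo scalars, `b` is the
monomial matrix of order four in the first block and `σ` exchanges the two blocks. -/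
structure BS (T : ZM k → ZM k → ZM k → G) (b σ : G) : Prop where
  mul : ∀ x y w x' y' w', T x y w * T x' y' w' = T (x + x') (y + y') (w + w')
  ker : ∀ {x y w}, T x y w = 1 ↔ y = x ∧ w = x ∧ 4 * x = 0
  bT : ∀ x y w, b * T x y w = T y x w * b
  bb : b * b = T 0 0 (2 * c)
  sT : ∀ x y w, σ * T x y w = T w (-(x + y + w)) x * σ
  ss : σ * σ = 1
  bc : b * b2 b σ = b2 b σ * b

/-- normal forms `T x y w * b ^ e * (σ b σ) ^ f * σ ^ g` -/
@[ext] structure NF (k : ℕ) where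
  x : ZM k
  y : ZM k
  w : ZM k
  e : Bool
  f : Bool
  g : Bool
deriving DecidableEq

/-- the action of the Weyl part on the exponents -/
def act (e f g : Bool) (x y w : ZM k) : ZM k × ZM k × ZM k :=
  match e, f, g with
  | false, false, false => (x, y, w)
  | true, false, false => (y, x, w)
  | false, true, false => (x, y, -(x + y + w))
  | true, true, false => (y, x, -(x + y + w))
  | false, false, true => (w, -(x + y + w), x)
  | true, false, true => (-(x + y + w), w, x)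
  | false, true, true => (w, -(x + y + w), y)
  | true, true, true => (-(x + y + w), w, y)

/-- the correction term -/
def zc (k : ℕ) (e f : Bool) : ZM k := cond (xor e f) (2 * cq k) 0

instance : Mul (NF k) := ⟨fun p q =>
  ⟨p.x + (act p.e p.f p.g q.x q.y q.w).1, p.y + (act p.e p.f p.g q.x q.y q.w).2.1,
    p.w + (act p.e p.f p.g q.x q.y q.w).2.2 +
      zc k (p.e && cond p.g q.f q.e) (p.f && cond p.g q.e q.f),
    xor p.e (cond p.g q.f q.e), xor p.f (cond p.g q.e q.f), xor p.g q.g⟩⟩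

instance : One (NF k) := ⟨⟨0, 0, 0, false, false, false⟩⟩

theorem NF.mul_def (p q : NF k) : p * q =
  ⟨p.x + (act p.e p.f p.g q.x q.y q.w).1, p.y + (act p.e p.f p.g q.x q.y q.w).2.1,
    p.w + (act p.e p.f p.g q.x q.y q.w).2.2 +
      zc k (p.e && cond p.g q.f q.e) (p.f && cond p.g q.e q.f),
    xor p.e (cond p.g q.f q.e), xor p.f (cond p.g q.e q.f), xor p.g q.g⟩ := rfl

theorem NF.one_def : (1 : NF k) = ⟨0, 0, 0, false, false, false⟩ := rfl

/-- two normal forms give the same element -/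
def NF.R (p q : NF k) : Prop := p.e = q.e ∧ p.f = q.f ∧ p.g = q.g ∧
  p.y - q.y = p.x - q.x ∧ p.w - q.w = p.x - q.x ∧ 4 * (p.x - q.x) = 0

instance (p q : NF k) : Decidable (p.R q) := by unfold NF.R; infer_instance

/-- the Weyl part -/
def wv (b σ : G) (e f g : Bool) : G := cond e b 1 * (cond f (b2 b σ) 1 * cond g σ 1)

/-- the value of a normal form -/
def ev (T : ZM k → ZM k → ZM k → G) (b σ : G) (p : NF k) : G := T p.x p.y p.w * wv b σ p.e p.f p.g

/-- the central involution -/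
abbrev ez (T : ZM k → ZM k → ZM k → G) : G := T 0 0 (2 * c)
/-- the second involution of the four-group `V` -/
abbrev ey (T : ZM k → ZM k → ZM k → G) : G := T 0 (2 * c) 0
/-- the element inducing diagonal automorphisms -/
abbrev ed (T : ZM k → ZM k → ZM k → G) : G := T 0 1 0
/-- the generator of the centraliser of the two quaternion groups -/
abbrev er (T : ZM k → ZM k → ZM k → G) : G := T 1 1 (-1)
/-- half of `cq k` -/
def cp (k : ℕ) : ZM k := 2 ^ (k - 1)
/-- the involution of the second class (`k ≠ 0`) -/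
abbrev et (T : ZM k → ZM k → ZM k → G) : G := T (cp k) (cp k) (cp k)

theorem two_cp (hk : k ≠ 0) : 2 * cp k = c := by
  obtain ⟨n, rfl⟩ := Nat.exists_eq_succ_of_ne_zero hk
  simp [cp, cq, pow_succ, mul_comm]

variable {T : ZM k → ZM k → ZM k → G} {b σ : G}

namespace BS

variable (h : BS T b σ)
include h

local notation "b'" => b2 b σ

theorem T0 : T 0 0 0 = 1 := h.ker.2 ⟨rfl, rfl, mul_zero _⟩
theorem Tinv (x y w : ZM k) : (T x y w)⁻¹ = T (-x) (-y) (-w) :=
  inv_eq_of_mul_eq_one_right (by rw [h.mul]; simpa using h.T0)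
theorem eq {x y w x' y' w' : ZM k} : T x y w = T x' y' w' ↔
    y - y' = x - x' ∧ w - w' = x - x' ∧ 4 * (x - x') = 0 := by
  rw [← mul_inv_eq_one, h.Tinv, h.mul, h.ker]; simp only [sub_eq_add_neg]
theorem te {x y w x' y' w' : ZM k} (h1 : y - y' = x - x') (h2 : w - w' = x - x')
    (h3 : 4 * (x - x') = 0) : T x y w = T x' y' w' := h.eq.2 ⟨h1, h2, h3⟩
theorem Tc (x y w x' y' w' : ZM k) : T x y w * T x' y' w' = T x' y' w' * T x y w := by
  rw [h.mul, h.mul, add_comm x, add_comm y, add_comm w]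
theorem Tpow (x y w : ZM k) (n : ℕ) : T x y w ^ n = T (n * x) (n * y) (n * w) := by
  induction n with
  | zero => simpa using h.T0.symm
  | succ n ih => rw [pow_succ, ih, h.mul]; congr 1 <;> push_cast <;> ring
theorem s_inv : σ⁻¹ = σ := inv_eq_of_mul_eq_one_right h.ss
theorem sss (g : G) : σ * (σ * g) = g := by rw [← mul_assoc, h.ss, one_mul]
theorem b2T (x y w : ZM k) : b' * T x y w = T x y (-(x + y + w)) * b' := by
  rw [b2, mul_assoc, h.sT, ← mul_assoc, mul_assoc σ, h.bT, ← mul_assoc, h.sT, mul_assoc, mul_assoc,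
    ← mul_assoc σ]
  congr 2 <;> ring
theorem b2b2 : b' * b' = ez T := by
  have : b' * b' = σ * (b * b) * σ := by simp only [b2, mul_assoc, h.sss]
  rw [this, h.bb, h.sT, mul_assoc, h.ss, mul_one]
  exact h.te (by linear_combination -c4) (by linear_combination -c4) (by linear_combination 2 * c4)
theorem sb : σ * b = b' * σ := by rw [b2, mul_assoc, h.ss, mul_one]
theorem sb2 : σ * b' = b * σ := by simp only [b2, mul_assoc, h.sss]
theorem zz : ez T * ez T = 1 := by rw [h.mul]; exact h.ker.2 ⟨rfl, by linear_combination c4, by ring⟩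
theorem z_ne : ez T ≠ 1 := fun e => c2 (h.ker.1 e).2.1
theorem bz : b * ez T = ez T * b := h.bT ..
theorem b2z : b' * ez T = ez T * b' := by
  rw [h.b2T]; congr 2; linear_combination -c4
theorem sz : σ * ez T = ez T * σ := by
  rw [h.sT]; congr 1
  exact h.te (by linear_combination -c4) (by linear_combination -c4) (by linear_combination 2 * c4)

theorem wT (e f g : Bool) (x y w : ZM k) : wv b σ e f g * T x y w =
    T (act e f g x y w).1 (act e f g x y w).2.1 (act e f g x y w).2.2 * wv b σ e f g := by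
  have A : ∀ x y w r, b * (T x y w * r) = T y x w * (b * r) := fun x y w r => by
    rw [← mul_assoc, h.bT, mul_assoc]
  have B : ∀ x y w r, b' * (T x y w * r) = T x y (-(x + y + w)) * (b' * r) := fun x y w r => by
    rw [← mul_assoc, h.b2T, mul_assoc]
  cases e <;> cases f <;> cases g <;>
    simp only [wv, act, cond, one_mul, mul_one, mul_assoc, h.bT, h.b2T, h.sT, A, B]
  all_goals congr 2; ring

theorem ww (e f g e' f' g' : Bool) : wv b σ e f g * wv b σ e' f' g' =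
    T 0 0 (zc k (e && cond g f' e') (f && cond g e' f')) *
      wv b σ (xor e (cond g f' e')) (xor f (cond g e' f')) (xor g g') := by
  have a1 : ∀ r, b * (b * r) = ez T * r := fun r => by rw [← mul_assoc, h.bb]
  have a2 : ∀ r, b' * (b' * r) = ez T * r := fun r => by rw [← mul_assoc, h.b2b2]
  have a3 : ∀ r, b' * (b * r) = b * (b' * r) := fun r => by rw [← mul_assoc, ← h.bc, mul_assoc]
  have a4 : ∀ r, σ * (b * r) = b' * (σ * r) := fun r => by rw [← mul_assoc, h.sb, mul_assoc]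
  have a5 : ∀ r, σ * (b' * r) = b * (σ * r) := fun r => by rw [← mul_assoc, h.sb2, mul_assoc]
  have a6 : ∀ r, b * (ez T * r) = ez T * (b * r) := fun r => by rw [← mul_assoc, h.bz, mul_assoc]
  have a7 : ∀ r, b' * (ez T * r) = ez T * (b' * r) := fun r => by rw [← mul_assoc, h.b2z, mul_assoc]
  have a8 : ∀ r, ez T * (ez T * r) = r := fun r => by rw [← mul_assoc, h.zz, one_mul]
  suffices H : ∀ r, wv b σ e f g * wv b σ e' f' g' * r = T 0 0 (zc k (e && cond g f' e')
      (f && cond g e' f')) * wv b σ (xor e (cond g f' e')) (xor f (cond g e' f')) (xor g g') * r by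
    simpa only [mul_one] using H 1
  intro r
  cases e <;> cases f <;> cases g <;> cases e' <;> cases f' <;> cases g' <;>
    simp only [wv, zc, cond, one_mul, mul_one, mul_assoc, Bool.xor_false, Bool.xor_true,
      Bool.not_true, Bool.not_false, Bool.and_self, Bool.and_true, Bool.and_false, Bool.bne_true,
      Bool.bne_false, h.T0, a1, a2, a3, a4, a5, a6, a7, a8, h.sss]

theorem ev_mul (p q : NF k) : ev T b σ p * ev T b σ q = ev T b σ (p * q) := by
  rw [ev, ev, mul_assoc, ← mul_assoc (wv ..), h.wT, mul_assoc, h.ww, ← mul_assoc, ← mul_assoc, h.mul,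
    h.mul, add_zero, add_zero]
  rfl

theorem ev_one : ev T b σ 1 = 1 := by simp [ev, NF.one_def, wv, h.T0]

theorem ev_T (x y w : ZM k) : ev T b σ ⟨x, y, w, false, false, false⟩ = T x y w := by simp [ev, wv]
theorem ev_b : ev T b σ ⟨0, 0, 0, true, false, false⟩ = b := by simp [ev, wv, h.T0]
theorem ev_b2 : ev T b σ ⟨0, 0, 0, false, true, false⟩ = b' := by simp [ev, wv, h.T0]
theorem ev_s : ev T b σ ⟨0, 0, 0, false, false, true⟩ = σ := by simp [ev, wv, h.T0]

theorem evT (p : NF k) (x y w : ZM k) :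
    ev T b σ p * T x y w = ev T b σ (p * ⟨x, y, w, false, false, false⟩) := by rw [← h.ev_mul, h.ev_T]
theorem Tev (p : NF k) (x y w : ZM k) :
    T x y w * ev T b σ p = ev T b σ (⟨x, y, w, false, false, false⟩ * p) := by rw [← h.ev_mul, h.ev_T]
theorem evb (p : NF k) : ev T b σ p * b = ev T b σ (p * ⟨0, 0, 0, true, false, false⟩) := by
  rw [← h.ev_mul, h.ev_b]
theorem bev (p : NF k) : b * ev T b σ p = ev T b σ (⟨0, 0, 0, true, false, false⟩ * p) := by
  rw [← h.ev_mul, h.ev_b]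
theorem evb2 (p : NF k) : ev T b σ p * b' = ev T b σ (p * ⟨0, 0, 0, false, true, false⟩) := by
  rw [← h.ev_mul, h.ev_b2]
theorem b2ev (p : NF k) : b' * ev T b σ p = ev T b σ (⟨0, 0, 0, false, true, false⟩ * p) := by
  rw [← h.ev_mul, h.ev_b2]
theorem evs (p : NF k) : ev T b σ p * σ = ev T b σ (p * ⟨0, 0, 0, false, false, true⟩) := by
  rw [← h.ev_mul, h.ev_s]
theorem sev (p : NF k) : σ * ev T b σ p = ev T b σ (⟨0, 0, 0, false, false, true⟩ * p) := by
  rw [← h.ev_mul, h.ev_s]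

theorem ev_ne1 {p : NF k} (e : ev T b σ p = 1) : p.e = false ∧ p.f = false ∧ p.g = false := by
  obtain ⟨x, y, w, e1, f, g⟩ := p
  have A : ∀ x' y' w', T (act e1 f g x' y' w').1 (act e1 f g x' y' w').2.1 (act e1 f g x' y' w').2.2 =
      T x' y' w' := fun x' y' w' => by
    have := h.wT e1 f g x' y' w'
    rw [show wv b σ e1 f g = (T x y w)⁻¹ from eq_inv_of_mul_eq_one_right e, h.Tinv, h.Tc] at this
    exact (mul_right_cancel this).symm
  have A1 := h.eq.1 (A 1 0 0)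
  have A2 := h.eq.1 (A 0 0 1)
  have n2 : (2 : ZM k) ≠ 0 := fun e => c2 (by rw [e, zero_mul])
  have n1 : (1 : ZM k) ≠ 0 := fun e => n2 (by linear_combination 2 * e)
  cases e1 <;> cases f <;> cases g <;> simp only [act] at A1 A2 <;> try exact ⟨rfl, rfl, rfl⟩
  all_goals exfalso
  · exact n2 (by linear_combination A1.2.1)
  · exact n2 (by linear_combination -A2.2.1)
  · exact n2 (by linear_combination -A2.1)
  · exact n2 (by linear_combination A1.1)
  · exact n2 (by linear_combination A2.1)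
  · exact n2 (by linear_combination A1.1)
  · exact n2 (by linear_combination A1.1)

theorem ev_inv (p : NF k) : ∃ q : NF k, q.e = cond p.g p.f p.e ∧ q.f = cond p.g p.e p.f ∧ q.g = p.g ∧
    (ev T b σ p)⁻¹ = ev T b σ q := by
  obtain ⟨x, y, w, e, f, g⟩ := p
  have A : ∀ q : NF k, ev T b σ ⟨x, y, w, e, f, g⟩ * ev T b σ q = 1 →
      (ev T b σ ⟨x, y, w, e, f, g⟩)⁻¹ = ev T b σ q := fun q => inv_eq_of_mul_eq_one_right
  obtain ⟨x', y', w', B⟩ : ∃ x' y' w', ev T b σ ⟨0, 0, 0, cond g f e, cond g e f, g⟩ *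
      ev T b σ ⟨x, y, w, e, f, g⟩ = T x' y' w' := by
    rw [h.ev_mul]
    cases e <;> cases f <;> cases g <;> exact ⟨_, _, _, h.ev_T ..⟩
  refine ⟨⟨-x', -y', -w', false, false, false⟩ * ⟨0, 0, 0, cond g f e, cond g e f, g⟩, by simp [NF.mul_def],
    by simp [NF.mul_def], by simp [NF.mul_def], inv_eq_of_mul_eq_one_left ?_⟩
  rw [← h.ev_mul, mul_assoc, B, h.ev_T, ← h.Tinv, inv_mul_cancel]

theorem ev_eq {p q : NF k} : ev T b σ p = ev T b σ q ↔ p.R q := by
  have A : p.e = q.e → p.f = q.f → p.g = q.g → (ev T b σ p = ev T b σ q ↔ p.R q) := fun a1 a2 a3 => by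
    rw [ev, ev, a1, a2, a3, mul_left_inj, h.eq, NF.R]; tauto
  refine ⟨fun e => ?_, fun r => (A r.1 r.2.1 r.2.2.1).2 r⟩
  obtain ⟨q', h1, h2, h3, h4⟩ := h.ev_inv q
  obtain ⟨a1, a2, a3⟩ := h.ev_ne1 (p := p * q') (by rw [← h.ev_mul, ← h4, e, mul_inv_cancel])
  simp only [NF.mul_def, h1, h2, h3] at a1 a2 a3
  refine (A ?_ ?_ ?_).1 e <;> revert a1 a2 a3 <;> cases p.e <;> cases p.f <;> cases p.g <;>
    cases q.e <;> cases q.f <;> cases q.g <;> simp

theorem ev_eq_one {p : NF k} : ev T b σ p = 1 ↔ p.R 1 := by rw [← h.ev_eq, h.ev_one]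

theorem ev_comm {p q : NF k} : ev T b σ p * ev T b σ q = ev T b σ q * ev T b σ p ↔ (p * q).R (q * p) := by
  rw [h.ev_mul, h.ev_mul, h.ev_eq]

theorem ev_four (p : NF k) : ∃ x y w, ev T b σ p ^ 4 = T x y w := by
  rw [show 4 = 2 * 2 from rfl, pow_mul, pow_two, pow_two, h.ev_mul, h.ev_mul]
  obtain ⟨x, y, w, e, f, g⟩ := p
  cases e <;> cases f <;> cases g <;> exact ⟨_, _, _, h.ev_T ..⟩

theorem T_pow (x y w : ZM k) : T x y w ^ 2 ^ (k + 2) = 1 := by
  have : ((2 ^ (k + 2) : ℕ) : ZM k) = 0 := by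
    have := c4 (k := k); rw [cq] at this; push_cast; linear_combination this
  rw [h.Tpow, this]; simpa using h.T0

theorem ev_pow (p : NF k) : ev T b σ p ^ 2 ^ (k + 4) = 1 := by
  obtain ⟨x, y, w, e⟩ := h.ev_four p
  rw [show 2 ^ (k + 4) = 4 * 2 ^ (k + 2) by ring, pow_mul, e, h.T_pow]

end BS

/-- the subgroup of the elements with a normal form in `P` -/
def BS.sub (h : BS T b σ) (P : NF k → Prop) (h1 : P 1) (hm : ∀ p q, P p → P q → P (p * q)) :
    Subgroup G where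
  carrier := {g | ∃ p, P p ∧ g = ev T b σ p}
  one_mem' := ⟨1, h1, h.ev_one.symm⟩
  mul_mem' := by rintro _ _ ⟨p, a, rfl⟩ ⟨q, d, rfl⟩; exact ⟨_, hm p q a d, h.ev_mul p q⟩
  inv_mem' := by
    rintro _ ⟨p, a, rfl⟩
    have A : ∀ n : ℕ, ∃ q, P q ∧ ev T b σ p ^ n = ev T b σ q := fun n => by
      induction n with
      | zero => exact ⟨1, h1, by rw [pow_zero, h.ev_one]⟩
      | succ n ih =>
        obtain ⟨q, d, e⟩ := ih
        exact ⟨_, hm q p d a, by rw [pow_succ, e, h.ev_mul]⟩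
    have B : ev T b σ p ^ 2 ^ (k + 4) = 1 := h.ev_pow p
    obtain ⟨q, d, e⟩ := A (2 ^ (k + 4) - 1)
    exact ⟨q, d, e ▸ inv_eq_of_mul_eq_one_right (by
      rw [← pow_succ', Nat.sub_add_cancel (Nat.one_le_pow _ _ (by norm_num)), B])⟩

/-- the values of the two quaternion groups -/
def phN : QG k × QG k → NF k
  | (a i, a j) => ⟨i, -i, j, false, false, false⟩
  | (xa i, a j) => ⟨-i, i, j, true, false, false⟩
  | (a i, xa j) => ⟨i, -i, -j, false, true, false⟩
  | (xa i, xa j) => ⟨-i, i, -j, true, true, false⟩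

/-- the automorphisms of the quaternion group induced by the powers of `ed T` -/
def dl (m : ZM k) : QG k → QG k
  | a i => a i
  | xa i => xa (i + m)

namespace BS

variable (h : BS T b σ)

local notation "b'" => b2 b σ

/-- the Sylow subgroup -/
def S : Subgroup G := h.sub (fun _ => True) trivial fun _ _ _ _ => trivial
/-- the torus -/
def A : Subgroup G := h.sub (fun p => p.e = false ∧ p.f = false ∧ p.g = false) ⟨rfl, rfl, rfl⟩
  fun p q => by simp +contextual [NF.mul_def]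
/-- the centraliser of the four-group `V` -/
def S0 : Subgroup G := h.sub (fun p => p.e = p.f) rfl fun p q a d => by
  simp only [NF.mul_def, a, d, Bool.cond_self]
/-- the stabiliser of the two quaternion groups -/
def S1 : Subgroup G := h.sub (fun p => p.g = false) rfl fun p q => by simp +contextual [NF.mul_def]
/-- the centraliser of `et T` -/
def P : Subgroup G := h.sub (fun p => p.f = false ∧ p.g = false) ⟨rfl, rfl⟩ fun p q => by
  simp +contextual [NF.mul_def]
/-- the subgroup of index four of `S0` generated by the involutions of the first family -/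
def So : Subgroup G := h.sub (fun p => p.e = p.f ∧ ∃ i j, p.y = p.x + 2 * i ∧ p.w = p.x + 2 * j)
  ⟨rfl, 0, 0, by simp [NF.one_def], by simp [NF.one_def]⟩ (by
    rintro ⟨x, y, w, e, f, g⟩ ⟨x', y', w', e', f', g'⟩ ⟨a1, i, j, a2, a3⟩ ⟨d1, i', j', d2, d3⟩
    obtain rfl : e = f := a1
    obtain rfl : e' = f' := d1
    obtain rfl : y = x + 2 * i := a2
    obtain rfl : w = x + 2 * j := a3
    obtain rfl : y' = x' + 2 * i' := d2
    obtain rfl : w' = x' + 2 * j' := d3
    refine ⟨by simp [NF.mul_def], ?_⟩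
    cases e <;> cases g <;> simp only [NF.mul_def, act, Bool.cond_self, zc, Bool.xor_self, cond]
    · exact ⟨i + i', j + j', by ring, by ring⟩
    · exact ⟨i - 2 * x' - i' - 2 * j', j - j', by ring, by ring⟩
    · exact ⟨i - i', j - 2 * x' - 2 * i' - j', by ring, by ring⟩
    · exact ⟨i + 2 * x' + i' + 2 * j', j + 2 * x' + 2 * i' + j', by ring, by ring⟩)

theorem mem_S {g : G} : g ∈ h.S ↔ ∃ p, g = ev T b σ p := exists_congr fun _ => and_iff_right trivial
theorem mem_A' {g : G} : g ∈ h.A ↔ ∃ p : NF k, (p.e = false ∧ p.f = false ∧ p.g = false) ∧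
  g = ev T b σ p := Iff.rfl
theorem mem_S0 {g : G} : g ∈ h.S0 ↔ ∃ p : NF k, p.e = p.f ∧ g = ev T b σ p := Iff.rfl
theorem mem_S1 {g : G} : g ∈ h.S1 ↔ ∃ p : NF k, p.g = false ∧ g = ev T b σ p := Iff.rfl
theorem mem_P {g : G} : g ∈ h.P ↔ ∃ p : NF k, (p.f = false ∧ p.g = false) ∧ g = ev T b σ p := Iff.rfl
theorem mem_So {g : G} : g ∈ h.So ↔ ∃ p : NF k,
  (p.e = p.f ∧ ∃ i j, p.y = p.x + 2 * i ∧ p.w = p.x + 2 * j) ∧ g = ev T b σ p := Iff.rfl
theorem mem_A {g : G} : g ∈ h.A ↔ ∃ x y w, g = T x y w :=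
  ⟨by rintro ⟨⟨x, y, w, _, _, _⟩, ⟨rfl, rfl, rfl⟩, rfl⟩; exact ⟨x, y, w, h.ev_T ..⟩,
    by rintro ⟨x, y, w, rfl⟩; exact ⟨⟨x, y, w, false, false, false⟩, ⟨rfl, rfl, rfl⟩, (h.ev_T ..).symm⟩⟩
theorem ev_mem (p : NF k) : ev T b σ p ∈ h.S := h.mem_S.2 ⟨p, rfl⟩
theorem T_memA (x y w : ZM k) : T x y w ∈ h.A := h.mem_A.2 ⟨x, y, w, rfl⟩
theorem A_le0 : h.A ≤ h.S0 := fun _ ⟨p, d, e⟩ => ⟨p, d.1.trans d.2.1.symm, e⟩
theorem A_leP : h.A ≤ h.P := fun _ ⟨p, d, e⟩ => ⟨p, d.2, e⟩
theorem P_le1 : h.P ≤ h.S1 := fun _ ⟨p, d, e⟩ => ⟨p, d.2, e⟩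
theorem So_le0 : h.So ≤ h.S0 := fun _ ⟨p, d, e⟩ => ⟨p, d.1, e⟩
theorem S0_le : h.S0 ≤ h.S := fun _ ⟨p, _, e⟩ => ⟨p, trivial, e⟩
theorem S1_le : h.S1 ≤ h.S := fun _ ⟨p, _, e⟩ => ⟨p, trivial, e⟩
theorem A_le : h.A ≤ h.S := h.A_le0.trans h.S0_le
theorem T_mem (x y w : ZM k) : T x y w ∈ h.S := h.A_le (h.T_memA x y w)
theorem b_mem : b ∈ h.S := h.mem_S.2 ⟨_, h.ev_b.symm⟩
theorem b2_mem : b' ∈ h.S := h.mem_S.2 ⟨_, h.ev_b2.symm⟩
theorem s_mem : σ ∈ h.S := h.mem_S.2 ⟨_, h.ev_s.symm⟩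
theorem ev_A {p : NF k} : ev T b σ p ∈ h.A ↔ p.e = false ∧ p.f = false ∧ p.g = false :=
  ⟨fun ⟨_, _, e⟩ => by obtain ⟨a1, a2, a3, -⟩ := h.ev_eq.1 e; rwa [a1, a2, a3], fun d => ⟨p, d, rfl⟩⟩
theorem ev_S0 {p : NF k} : ev T b σ p ∈ h.S0 ↔ p.e = p.f :=
  ⟨fun ⟨_, _, e⟩ => by obtain ⟨a1, a2, -⟩ := h.ev_eq.1 e; rwa [a1, a2], fun d => ⟨p, d, rfl⟩⟩
theorem ev_S1 {p : NF k} : ev T b σ p ∈ h.S1 ↔ p.g = false :=
  ⟨fun ⟨_, _, e⟩ => by obtain ⟨-, -, a3, -⟩ := h.ev_eq.1 e; rwa [a3], fun d => ⟨p, d, rfl⟩⟩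
theorem ev_P {p : NF k} : ev T b σ p ∈ h.P ↔ p.f = false ∧ p.g = false :=
  ⟨fun ⟨_, _, e⟩ => by obtain ⟨-, a2, a3, -⟩ := h.ev_eq.1 e; rwa [a2, a3], fun d => ⟨p, d, rfl⟩⟩
theorem ev_So {p : NF k} : ev T b σ p ∈ h.So ↔
    p.e = p.f ∧ ∃ i j, p.y = p.x + 2 * i ∧ p.w = p.x + 2 * j :=
  ⟨fun ⟨_, ⟨_, i, j, d1, d2⟩, e⟩ => by
    obtain ⟨a1, a2, -, a3, a4, -⟩ := h.ev_eq.1 e
    exact ⟨by rwa [a1, a2], i, j, by linear_combination a3 + d1, by linear_combination a4 + d2⟩,
    fun d => ⟨p, d, rfl⟩⟩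
theorem S_le {K : Subgroup G} (h1 : ∀ x y w, T x y w ∈ K) (h2 : b ∈ K) (h3 : σ ∈ K) : h.S ≤ K := by
  rintro _ ⟨⟨x, y, w, e, f, g⟩, -, rfl⟩
  refine mul_mem (h1 ..) (mul_mem ?_ (mul_mem ?_ ?_))
  · cases e; exacts [one_mem _, h2]
  · cases f; exacts [one_mem _, mul_mem (mul_mem h3 h2) h3]
  · cases g; exacts [one_mem _, h3]
theorem two : IsPGroup 2 h.S := by
  rintro ⟨_, p, -, rfl⟩; exact ⟨k + 4, Subtype.ext (h.ev_pow p)⟩
theorem zc {g : G} (hg : g ∈ h.S) : g * ez T = ez T * g :=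
  mem_centralizer_singleton_iff.1 (h.S_le (K := centralizer {ez T})
    (fun _ _ _ => mem_centralizer_singleton_iff.2 (h.Tc ..)) (mem_centralizer_singleton_iff.2 h.bz)
    (mem_centralizer_singleton_iff.2 h.sz) hg)

theorem phN_mul (p q : QG k × QG k) : (phN (p * q)).R (phN p * phN q) := by
  obtain ⟨i | i, j | j⟩ := p <;> obtain ⟨i' | i', j' | j'⟩ := q <;>
    simp only [Prod.mk_mul_mk, a_mul_a, a_mul_xa, QuaternionGroup.xa_mul_a, xx, phN, NF.mul_def, act,
      LB.zc, NF.R, cond, Bool.xor_false, Bool.xor_true, Bool.not_true, Bool.not_false, Bool.and_self,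
      Bool.and_true, Bool.and_false, Bool.bne_true, Bool.bne_false, true_and] <;>
    refine ⟨?_, ?_, ?_⟩ <;>
    first | ring1 | linear_combination c4 | linear_combination -c4 | linear_combination 2 * c4 |
      linear_combination -2 * c4

/-- the two quaternion groups -/
def phi : QG k × QG k →* G := MonoidHom.mk' (fun p => ev T b σ (phN p)) fun p q => by
  rw [h.ev_mul, h.ev_eq]; exact phN_mul p q

theorem phi_eq (p : QG k × QG k) : h.phi p = ev T b σ (phN p) := rfl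
theorem phi_aa (i j : ZM k) : h.phi (a i, a j) = T i (-i) j := h.ev_T ..
theorem phi_b : h.phi (xa 0, 1) = b := 
  (h.ev_eq.2 (show (phN (xa 0, a 0)).R _ by simp [phN, NF.R, -QuaternionGroup.a_zero])).trans h.ev_b
theorem phi_b2 : h.phi (1, xa 0) = b' := 
  (h.ev_eq.2 (show (phN (a 0, xa 0)).R _ by simp [phN, NF.R, -QuaternionGroup.a_zero])).trans h.ev_b2
theorem phi_u : h.phi (u0 k, 1) = T c (-c) 0 := h.phi_aa ..
theorem phi_u' : h.phi (1, u0 k) = T 0 0 c := (h.phi_aa ..).trans (by rw [neg_zero])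
theorem phi_c0 : h.phi (xa 0, xa 0) = b * b' := by
  have := pm h.phi (xa 0) 1 1 (xa 0)
  rw [h.phi_b, h.phi_b2, mul_one, one_mul] at this
  exact this.symm
theorem cz_eq : cz h.phi = ez T := (h.phi_aa ..).trans
  (h.te (by linear_combination -c4) (by linear_combination -c4) (by linear_combination 2 * c4))
theorem ct_eq : ct h.phi = ey T := (h.phi_aa ..).trans
  (h.te (by linear_combination -c4) (by ring) (by linear_combination c4))
theorem phi_mem1 (p : QG k × QG k) : h.phi p ∈ h.S1 :=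
  h.ev_S1.2 (by obtain ⟨i | i, j | j⟩ := p <;> rfl)
theorem phi_mem (p : QG k × QG k) : h.phi p ∈ h.S := h.ev_mem _
theorem R_le1 : h.phi.range ≤ h.S1 := by rintro _ ⟨p, rfl⟩; exact h.phi_mem1 p
theorem R_le : h.phi.range ≤ h.S := h.R_le1.trans h.S1_le

theorem ps : PS h.phi σ where
  ss := h.ss
  sw x y := by
    rw [phi_eq, phi_eq, h.sev, h.evs, h.ev_eq]
    rcases x with i | i <;> rcases y with j | j <;> simp [phN, NF.mul_def, act, LB.zc, NF.R]
  ker x y := by
    rw [phi_eq, h.ev_eq_one]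
    rcases x with i | i <;> rcases y with j | j <;> simp only [phN, NF.R, NF.one_def, QuaternionGroup.one_def, z0]
    · simp only [true_and, sub_zero, a.injEq]
      constructor
      · rintro ⟨e, rfl, -⟩
        exact (tor (by linear_combination -e)).imp (fun e => ⟨e, e⟩) fun e => ⟨e, e⟩
      · rintro (⟨rfl, rfl⟩ | ⟨rfl, rfl⟩)
        exacts [by simp, ⟨by linear_combination -c4, rfl, by linear_combination 2 * c4⟩]
    all_goals simp [-QuaternionGroup.a_zero]

theorem d_phi (m : ZM k) (x y : QG k) :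
    T 0 m 0 * h.phi (x, y) = h.phi (dl m x, dl (-m) y) * T 0 m 0 := by
  rw [← h.ev_T, phi_eq, phi_eq, h.ev_mul, h.ev_mul, h.ev_eq]
  rcases x with i | i <;> rcases y with j | j <;> simp [dl, phN, NF.mul_def, act, LB.zc, NF.R] <;>
    (try constructor) <;> ring

theorem r_phi (m : ZM k) (p : QG k × QG k) : T m m (-m) * h.phi p = h.phi p * T m m (-m) := by
  rw [← h.ev_T, phi_eq, h.ev_comm]
  obtain ⟨i | i, j | j⟩ := p <;> simp [phN, NF.mul_def, act, LB.zc, NF.R] <;>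
    refine ⟨?_, ?_, ?_⟩ <;> ring

theorem T_eq (x y w : ZM k) : T x y w = h.phi (a x, a w) * T 0 (x + y) 0 := by
  rw [phi_aa, h.mul]; congr 1 <;> ring

/-- the elements of `S1` -/
theorem S1_cases {g : G} (hg : g ∈ h.S1) : ∃ p m, g = h.phi p * T 0 m 0 := by
  obtain ⟨⟨x, y, w, e, f, _⟩, rfl, rfl⟩ := hg
  cases e <;> cases f
  · exact ⟨(a x, a w), x + y, (h.ev_T ..).trans (h.T_eq ..)⟩
  · exact ⟨(a x, xa (-(x + y + w))), x + y, by
      rw [← h.ev_T, phi_eq, h.ev_mul, h.ev_eq]; simp [phN, NF.mul_def, act, LB.zc, NF.R]; ring⟩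
  · exact ⟨(xa y, a w), x + y, by
      rw [← h.ev_T, phi_eq, h.ev_mul, h.ev_eq]; simp [phN, NF.mul_def, act, LB.zc, NF.R]⟩
  · exact ⟨(xa y, xa (-(x + y + w))), x + y, by
      rw [← h.ev_T, phi_eq, h.ev_mul, h.ev_eq]; simp [phN, NF.mul_def, act, LB.zc, NF.R]; ring⟩

theorem ev_R {p : NF k} : ev T b σ p ∈ h.phi.range ↔
    p.g = false ∧ (p.x + p.y = 0 ∨ p.x + p.y = 2 * c) := by
  constructor
  · rintro ⟨⟨i | i, j | j⟩, e⟩ <;> obtain ⟨-, -, a3, a4, -, a5⟩ := h.ev_eq.1 e <;>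
      simp only [phN] at a3 a4 a5 <;> exact ⟨a3.symm, tor (by linear_combination -2 * a4 - a5)⟩
  · obtain ⟨x, y, w, e, f, g⟩ := p
    rintro ⟨rfl, d⟩
    obtain ⟨s, d1, d2⟩ : ∃ s : ZM k, x + y = 2 * s ∧ 4 * s = 0 :=
      d.elim (fun d => ⟨0, by simpa using d, mul_zero _⟩) fun d => ⟨c, d, c4⟩
    cases e <;> cases f
    exacts [⟨(a (x - s), a (w - s)), h.ev_eq.2 ⟨rfl, rfl, rfl, by
        simp only [phN]; linear_combination -d1, by simp only [phN]; ring,
        by simp only [phN]; linear_combination -d2⟩⟩,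
      ⟨(a (x - s), xa (s - w)), h.ev_eq.2 ⟨rfl, rfl, rfl, by
        simp only [phN]; linear_combination -d1, by simp only [phN]; ring,
        by simp only [phN]; linear_combination -d2⟩⟩,
      ⟨(xa (s - x), a (w - s)), h.ev_eq.2 ⟨rfl, rfl, rfl, by
        simp only [phN]; linear_combination -d1, by simp only [phN]; ring,
        by simp only [phN]; linear_combination -d2⟩⟩,
      ⟨(xa (s - x), xa (s - w)), h.ev_eq.2 ⟨rfl, rfl, rfl, by
        simp only [phN]; linear_combination -d1, by simp only [phN]; ring,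
        by simp only [phN]; linear_combination -d2⟩⟩]

theorem out {g : G} (hg : g ∈ h.S) (hn : g ∉ h.S1) : g * σ ∈ h.S1 := by
  obtain ⟨p, rfl⟩ := h.mem_S.1 hg
  rw [h.ev_S1] at hn
  rw [h.evs, h.ev_S1]; simpa [NF.mul_def] using hn

include h in
theorem map {X : Type*} [Group X] (π : G →* X) (hπ : ∀ x y w, π (T x y w) = 1 → T x y w = 1) :
    BS (fun x y w => π (T x y w)) (π b) (π σ) where
  mul _ _ _ _ _ _ := by rw [← map_mul, h.mul]
  ker := Iff.trans ⟨hπ _ _ _, fun e => by rw [e, map_one]⟩ h.ker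
  bT _ _ _ := by rw [← map_mul, h.bT, map_mul]
  bb := by rw [← map_mul, h.bb]
  sT _ _ _ := by rw [← map_mul, h.sT, map_mul]
  ss := by rw [← map_mul, h.ss, map_one]
  bc := by simpa only [b2, map_mul] using congrArg π h.bc

theorem map_ev {X : Type*} [Group X] (π : G →* X) (p : NF k) :
    ev (fun x y w => π (T x y w)) (π b) (π σ) p = π (ev T b σ p) := by
  obtain ⟨x, y, w, e, f, g⟩ := p
  cases e <;> cases f <;> cases g <;> simp [ev, wv, b2]

theorem restr {H : Subgroup G} (hH : h.S ≤ H) :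
    BS (fun x y w => (⟨T x y w, hH (h.T_mem x y w)⟩ : H)) ⟨b, hH h.b_mem⟩ ⟨σ, hH h.s_mem⟩ where
  mul _ _ _ _ _ _ := Subtype.ext (h.mul ..)
  ker := Subtype.ext_iff.trans h.ker
  bT _ _ _ := Subtype.ext (h.bT ..)
  bb := Subtype.ext h.bb
  sT _ _ _ := Subtype.ext (h.sT ..)
  ss := Subtype.ext h.ss
  bc := Subtype.ext h.bc

include h in
/-- the twist exchanging the two families of elementary abelian groups of order sixteen -/
theorem tw : BS T b (ed T * σ) where
  mul := h.mul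
  ker := h.ker
  bT := h.bT
  bb := h.bb
  sT x y w := by rw [mul_assoc, h.sT, ← mul_assoc, h.Tc, mul_assoc]
  ss := by
    rw [ed, ← h.ev_T, h.evs, h.ev_mul, h.ev_eq_one]
    simp [NF.mul_def, act, LB.zc, NF.R, NF.one_def]
  bc := by
    rw [b2, ed, ← h.ev_T]
    simp only [h.evs, h.evb, h.bev, h.ev_mul, h.ev_eq]
    simp [NF.mul_def, act, LB.zc, NF.R]

include h in
/-- the twist exchanging two classes of involutions outside `S0` -/
theorem tw2 (hk : k ≠ 0) : BS T (b * et T) σ where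
  mul := h.mul
  ker := h.ker
  bT x y w := by rw [mul_assoc, h.Tc, ← mul_assoc, h.bT, mul_assoc]
  bb := by
    rw [et, ← h.ev_T, ← h.ev_T]
    simp only [h.bev, h.ev_mul, h.ev_eq]
    simp [NF.mul_def, act, LB.zc, NF.R]
    linear_combination 4 * two_cp hk + c4
  sT := h.sT
  ss := h.ss
  bc := by
    rw [b2, et, ← h.ev_T]
    simp only [h.evs, h.sev, h.bev, h.ev_mul, h.ev_eq]
    simp [NF.mul_def, act, LB.zc, NF.R]
    exact ⟨by linear_combination 4 * two_cp hk + c4, by linear_combination -8 * two_cp hk - 2 * c4⟩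

theorem tw_S : h.tw.S = h.S :=
  le_antisymm (h.tw.S_le h.T_mem h.b_mem (mul_mem (h.T_mem ..) h.s_mem)) (h.S_le h.tw.T_mem h.tw.b_mem
    (by simpa using mul_mem (inv_mem (h.tw.T_mem 0 1 0)) h.tw.s_mem))

theorem tw2_S (hk : k ≠ 0) : (h.tw2 hk).S = h.S :=
  le_antisymm ((h.tw2 hk).S_le h.T_mem (mul_mem h.b_mem (h.T_mem ..)) h.s_mem)
    (h.S_le (h.tw2 hk).T_mem (by
      simpa using mul_mem (h.tw2 hk).b_mem (inv_mem ((h.tw2 hk).T_mem (cp k) (cp k) (cp k))))
      (h.tw2 hk).s_mem)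

end BS

theorem auto_lemmas_S : True := by
  have := @b2.eq_1.{0}
  have := @act.eq_1
  have := @act.eq_def
  have := @zc.eq_1
  have := @NF.R.eq_1
  have := @wv.eq_1.{0}
  have := @ev.eq_1.{0}
  have := @cp.eq_1
  have := @phN.eq_1
  have := @phN.eq_def
  have := @dl.eq_1
  have := @dl.eq_def
  have := @BS.sub.eq_1.{0}
  have := @BS.S.eq_1.{0}
  have := @BS.A.eq_1.{0}
  have := @BS.S0.eq_1.{0}
  have := @BS.S1.eq_1.{0}
  have := @BS.P.eq_1.{0}
  have := @BS.So.eq_1.{0}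
  have := @BS.phi.eq_1.{0}
  have := @ez.eq_1.{0}
  have := @ey.eq_1.{0}
  have := @ed.eq_1.{0}
  have := @er.eq_1.{0}
  have := @et.eq_1.{0}
  trivial

end H13.LB
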